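import Mathlib
import Cfsg.Agent.Lib.MonS.Th
import Cfsg.Agent.Lib.Mon.Struct4
import Cfsg.Agent.Lib.BCor.Str
import Cfsg.Agent.Lib.BenderRed.Final
import Cfsg.Agent.Lib.Invol.Four

/-!
# The centralizer `3 × Th` in the Monster
-/

set_option autoImplicit false

namespace CfsgLib.MonS

open Cfsg CfsgLib.Mon CfsgLib.MType CfsgLib.Leech Subgroup

variable {G : Type*} [Group G]

theorem pRank_two {s t : G} (hs : orderOf s = 2) (ht : orderOf t = 2) (hst : s ≠ t) (h : Commute s t) :
    PRankAtLeast 2 2 G := by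
  have := Invol.isKleinFour_four hs ht hst h
  exact ⟨closure {s, t}, IsKleinFour.isMulCommutative, fun a ha => congrArg Subtype.val (show (⟨a, ha⟩ : closure {s, t}) ^ 2 = 1 from
    (sq _).trans (IsKleinFour.mul_self _)), IsKleinFour.card_four.ge⟩

/-- a subgroup with one class of involutions which contains the centralizer of one of them -/
theorem eq_top_of_cent [Finite G] {Y : Subgroup G} (hs : ¬ Group.IsSolvable Y) (hr : PRankAtLeast 2 2 G)
    {a : G} (ha : orderOf a = 2) (haY : a ∈ Y) (hc : centralizer {a} ≤ Y)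
    (h : ∀ t ∈ Y, orderOf t = 2 → ∃ u ∈ Y, u * a * u⁻¹ = t) : Y = ⊤ := by
  by_contra hY
  refine hs (BCor.s2903 BenderRed.benderSimple hr Y (BCor.spe_iff_se.2
    (StrEmb.isStronglyEmbedded_of hY ⟨a, haY, ha⟩ fun t ht h2 g hg => ?_)))
  obtain ⟨v, hv, e⟩ := h _ hg (by rw [← h2, ← StrEmb.orderOf_conj g⁻¹ t, inv_inv])
  obtain ⟨u, hu, rfl⟩ := h t ht h2
  have : u⁻¹ * g * v ∈ Y := hc (mem_centralizer_singleton_iff.2 (by
    have := congrArg (fun s => u⁻¹ * g * s * v) e
    simpa [mul_assoc] using this))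
  simpa [mul_assoc] using Y.mul_mem (Y.mul_mem hu this) (Y.inv_mem hv)

theorem cent_ga_ne : centralizer {Th.g 0} ≠ ⊤ := fun e => by
  have := Th.index_C
  rw [← Th.cent_ga, e, index_top] at this
  omega

theorem card_cent_ga : Nat.card (centralizer {Th.g 0}) = 92897280 := by
  have := Th.πC.range.card_mul_index
  rw [Th.card_Th, Th.index_C, ← Th.cent_ga] at this
  exact Nat.eq_of_mul_eq_mul_right (by norm_num) (this.trans (by norm_num))

theorem card_cent_Th [Finite G] {f : Spor.Th →* G} (hf : Function.Injective f) {x : G} (hx : orderOf x = 3)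
    (hc : ∀ k, f k ∈ centralizer {x}) (hb : Nat.card (cen2 x (f (Th.g 0))) ≤ 278691840) :
    Nat.card (centralizer ({x} : Set G)) = 272237831663616000 := by
  have h1 : ∀ (a : zpowers x) k, Commute ((zpowers x).subtype a) (f k) := by
    rintro ⟨_, i, rfl⟩ k
    exact (mem_cent.1 (hc k)).zpow_left i
  let φ : zpowers x × Spor.Th →* centralizer ({x} : Set G) := ((zpowers x).subtype.noncommCoprod f h1).codRestrict _ (by
    rintro ⟨⟨_, i, rfl⟩, k⟩
    exact mul_mem (zpow_mem (mem_cent.2 rfl) i) (hc k))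
  have hφ : ∀ a k, (φ (a, k) : G) = a * f k := fun _ _ => rfl
  have hi : Function.Injective φ := (injective_iff_map_eq_one φ).2 fun ⟨a, k⟩ e => by
    have e1 : (a : G) * f k = 1 := congrArg Subtype.val e
    have e2 : k ∈ center Spor.Th := mem_center_iff.2 fun j => hf (by
      rw [map_mul, map_mul, eq_inv_of_mul_eq_one_right e1]; exact (h1 a j).inv_left.eq.symm)
    rcases (inferInstance : (center Spor.Th).Normal).eq_bot_or_eq_top with e3 | e3
    · obtain rfl : k = 1 := by simpa [e3] using e2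
      exact Prod.ext (Subtype.ext (by simpa using e1)) rfl
    · exact absurd (eq_top_iff.2 (e3 ▸ center_le_centralizer _)) cent_ga_ne
  have h3 : Nat.card (zpowers x) = 3 := by rw [Nat.card_zpowers, hx]
  have o0 : orderOf (Th.g 0) = 2 := orderOf_eq_of_prime Nat.prime_two ((sq _).trans Th.a_inv) Th.ga_ne
  have o1 : ∀ k, orderOf k = 2 → orderOf (φ (1, k)) = 2 := fun k e => by
    rw [orderOf_injective φ hi, Prod.orderOf_mk, orderOf_one, e]; rfl
  have o2 : orderOf (Th.g 2) = 2 := by rw [← Th.conj_c, StrEmb.orderOf_conj, o0]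
  have o3 : orderOf (Th.g 0 * Th.g 2) = 2 := by rw [← Th.conj_ac, StrEmb.orderOf_conj, o0]
  have sq2 : ∀ k : Spor.Th, orderOf k = 2 → k⁻¹ = k := fun k e =>
    inv_eq_of_mul_eq_one_right ((sq k).symm.trans (e ▸ pow_orderOf_eq_one k))
  have h4 : φ.range = ⊤ := by
    refine eq_top_of_cent (a := φ (1, Th.g 0)) (fun hs => cent_ga_ne ?_)
      (pRank_two (o1 _ o0) (o1 _ o2) (fun e => ?_) (Commute.map ?_ φ)) (o1 _ o0) ⟨_, rfl⟩ ?_ ?_
    · have := Group.isSolvable_of_isSolvable_injective (f := φ.rangeRestrict.comp (MonoidHom.inr _ _))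
        ((φ.rangeRestrict_injective_iff.2 hi).comp (Prod.mk_right_injective _))
      exact eq_top_iff.2 fun k _ => mem_centralizer_singleton_iff.2 (IsSimpleGroup.comm_iff_isSolvable.2 this _ _)
    · rw [← (Prod.mk.inj (hi e)).2, Th.a_inv, orderOf_one] at o3
      omega
    · refine Prod.ext rfl ?_
      simpa [sq2 _ o0, sq2 _ o2] using (sq2 _ o3).symm
    · refine (eq_of_le_of_card_ge (H := ((⊤ : Subgroup _).prod (centralizer {Th.g 0})).map φ) ?_ ?_).ge.trans
        (map_le_range _ _)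
      · rintro _ ⟨⟨a, k⟩, hk, rfl⟩
        refine mem_cent.2 (Commute.map (Prod.ext (by simp) ?_) φ)
        exact (mem_cent.1 hk.2).eq
      · rw [card_map_of_injective hi, Nat.card_congr (prodEquiv _ _).toEquiv, Nat.card_prod, card_top, h3, card_cent_ga,
          ← card_map_of_injective (centralizer _).subtype_injective]
        refine (card_le_of_le ?_).trans hb
        rintro _ ⟨y, hy, rfl⟩
        exact mem_cen2.2 ⟨(mem_cent.1 y.2).eq.symm, by simpa [hφ] using congrArg Subtype.val (mem_cent.1 hy).eq.symm⟩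
    · rintro _ ⟨⟨a, k⟩, rfl⟩ e
      rw [orderOf_injective φ hi] at e
      have e1 := pow_orderOf_eq_one (a, k)
      rw [e, Prod.pow_mk, Prod.mk_eq_one] at e1
      obtain rfl : a = 1 := by
        have := pow_card_eq_one' (x := a)
        rwa [h3, pow_succ, e1.1, one_mul] at this
      obtain ⟨u, rfl⟩ := isConj_iff.1 (Th.isConj_ga (i := k) (by simpa [Prod.orderOf_mk] using e))
      exact ⟨φ (1, u), ⟨_, rfl⟩, by rw [← map_inv, ← map_mul, ← map_mul]; simp⟩
  rw [← Nat.card_congr (Equiv.ofBijective φ ⟨hi, φ.range_eq_top.1 h4⟩), Nat.card_prod, h3, Th.card_Th]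

theorem card_cent_three {π : C k0 →* G} {τ : G} (h : MS π τ) {f : Spor.Th →* G} (hf : Function.Injective f)
    (h0 : f (Th.g 0) = π (z k0)) {c : C k0} (h3 : c ^ 3 = 1) (hc : toCo1 k0 c = QuotientGroup.mk (permAut C3B.σ))
    (hk : ∀ k, f k ∈ centralizer {π c}) :
    orderOf (π c) = 3 ∧ Nat.card (centralizer ({π c} : Set G)) = 272237831663616000 := by
  have := h.finite
  have h1 : orderOf (π c) = 3 := by
    rw [orderOf_injective π h.inj]
    refine orderOf_eq_of_prime (by norm_num) h3 fun e => ?_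
    have h2 := (orderOf_permAut _).trans C3B.ord
    rcases mk_eq_one_co1.1 (hc.symm.trans (by rw [e, map_one])) with e1 | e1 <;> rw [e1] at h2
    · simp at h2
    · exact absurd (h2 ▸ orderOf_dvd_of_pow_eq_one ((sq _).trans negAut_mul_self)) (by norm_num)
  refine ⟨h1, card_cent_Th hf h1 hk (le_trans ?_ (card_cent_3B h3 hc))⟩
  rw [← card_map_of_injective h.inj, h0]
  refine card_le_of_le fun y hy => ?_
  obtain ⟨k, rfl⟩ := h.mm.exists_eq (mem_cen2.1 hy).2
  exact ⟨k, mem_centralizer_singleton_iff.2 (h.comm_iff.1 (mem_cen2.1 hy).1), rfl⟩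

end CfsgLib.MonS
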