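import Mathlib
import Cfsg.Agent.Lib.MonS.Cent3
import Cfsg.Agent.Lib.MonK.Dce
import Cfsg.Agent.Lib.Mon.Ym

/-!
# Sporadic subgroups of the Monster and of the Baby Monster
-/

set_option autoImplicit false

namespace CfsgLib.MonS

open Cfsg CfsgLib.Mon CfsgLib.Mon.Cov CfsgLib.Mon.Y Subgroup

variable {G : Type*} [Group G] {π : C k0 →* G} {τ : G}

theorem mv (h : MAm π τ) : MV π τ := ⟨h, MonK.val1 h⟩

theorem simple_range {K : Type*} [Group K] {f : K →* G} (hf : Function.Injective f) {n : ℕ}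
    (h : IsSimpleGroup K ∧ Nat.card K = n) : IsSimpleGroup f.range ∧ Nat.card f.range = n :=
  have := h.1
  ⟨(MonoidHom.ofInjective hf).symm.isSimpleGroup, (Nat.card_congr (MonoidHom.ofInjective hf).toEquiv).symm.trans h.2⟩

theorem inj_quot {K : Type*} [Group K] {n : ℕ} (h : IsSimpleGroup K ∧ Nat.card K = n) (hn : ¬ n.Prime) {f : K →* G}
    (hf : Function.Injective f) : Function.Injective ((QuotientGroup.mk' (center G)).comp f) := by
  have := h.1
  by_contra e
  have : IsMulCommutative K := ⟨⟨fun a b => hf (by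
    by_contra e'
    refine e (inj_of_simple _ (x := a) fun k => e' ?_)
    rw [map_mul, map_mul, mem_center_iff.1 ((QuotientGroup.eq_one_iff _).1 k)])⟩⟩
  exact hn (h.2 ▸ Group.is_simple_iff_prime_card.1 h.1)

/-- a simple subgroup of a centralizer survives in the central quotient -/
theorem exists_quot_sub {K : Type*} [Group K] {n : ℕ} (h : IsSimpleGroup K ∧ Nat.card K = n) (hn : ¬ n.Prime)
    {f : K →* G} (hf : Function.Injective f) {a b : G} (e : IsConj a b) (hb : ∀ k, f k ∈ centralizer {b}) :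
    ∃ L : Subgroup (centralizer ({a} : Set G) ⧸ center (centralizer ({a} : Set G))),
      IsSimpleGroup L ∧ Nat.card L = n := by
  obtain ⟨u, rfl⟩ := isConj_iff.1 e
  refine ⟨_, simple_range (inj_quot h hn (f := ((MulAut.conj u⁻¹).toMonoidHom.comp f).codRestrict _ fun k => ?_)
    fun x y e => hf ((MulAut.conj u⁻¹).injective (congrArg Subtype.val e))) h⟩
  simpa [mem_cent, mul_assoc] using (mem_cent.1 (hb k)).conj u⁻¹

theorem odd_centralizers (h : MS π τ) :
    (∃ x : G, orderOf x = 3 ∧ Nat.card (centralizer ({x} : Set G)) = 272237831663616000 ∧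
      ∃ K : Subgroup G, K ≤ centralizer ({x} : Set G) ∧ IsTh K) ∧
    (∃ x : G, orderOf x = 5 ∧ ∃ K : Subgroup G, K ≤ centralizer ({x} : Set G) ∧ IsHN K) ∧
    ∃ x : G, orderOf x = 7 ∧ ∃ K : Subgroup G, K ≤ centralizer ({x} : Set G) ∧ IsHe K := by
  obtain ⟨f, f1, f2, -, c, c1, c2, c3⟩ := (mv h.am).exists_Th h.inj
  obtain ⟨g, g1, -, x, x1, x2⟩ := (mv h.am).exists_HN h.inj
  obtain ⟨k, k1, y, y1, y2⟩ := (mv h.am).exists_He h.inj
  obtain ⟨o, s⟩ := card_cent_three h f1 f2 c1 c2 c3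
  exact ⟨⟨_, o, s, f.range, by rintro _ ⟨a, rfl⟩; exact c3 a, simple_range f1 Th.isTh⟩,
    ⟨x, x1, g.range, by rintro _ ⟨a, rfl⟩; exact x2 a, simple_range g1 ⟨HN.simple, HN.card_HN⟩⟩,
    y, y1, k.range, by rintro _ ⟨a, rfl⟩; exact y2 a, simple_range k1 ⟨He.simple, He.card_eq⟩⟩

theorem exists_Fi23 (h : MS π τ) : ∃ f : Spor.Fi23 →* G, Function.Injective f ∧ ∀ k, f k ∈ centralizer {π tK} := by
  have Y := Ym.ym h.am
  obtain ⟨y, e⟩ := exists_res ((Y.gen433_le h).trans h.cent_t.ge)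
  have k := ys_of_inj (subtype_injective _) (Y.ys.mono (by norm_num) (by norm_num) le_rfl) e
  obtain ⟨φ, h1, -⟩ := exists_fi23 (k.mono le_rfl le_rfl (by norm_num)) fun e' => by
    have e1 := congrArg (centralizer {π tK}).subtype e'
    rw [map_mul, (map_f1 _ y).trans (f1_congr fun u hu => e u (Nd.ok_mono (by norm_num) (by norm_num) (by norm_num) hu)),
      (map_f2 _ y).trans (f2_congr fun u hu => e u (Nd.ok_mono (by norm_num) (by norm_num) (by norm_num) hu)),
      Y.e1, Y.e2, ← map_mul, map_one, map_eq_one_iff _ h.inj] at e1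
    exact tK_facts.2.2 (mul_right_cancel (tK_mul_self.trans e1.symm))
  exact ⟨(Subgroup.subtype _).comp φ, (subtype_injective _).comp h1, fun a => (φ a).2⟩

theorem baby_subgroups (h : MS π τ) :
    (∃ K : Subgroup (centralizer ({π tK} : Set G) ⧸ center (centralizer ({π tK} : Set G))), IsTh K) ∧
    (∃ K : Subgroup (centralizer ({π tK} : Set G) ⧸ center (centralizer ({π tK} : Set G))), IsHN K) ∧
    ∃ K : Subgroup (centralizer ({π tK} : Set G) ⧸ center (centralizer ({π tK} : Set G))), IsFi23 K := by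
  obtain ⟨f, f1, -, ⟨b, b1, b2⟩, -⟩ := (mv h.am).exists_Th h.inj
  obtain ⟨g, g1, g2, -⟩ := (mv h.am).exists_HN h.inj
  obtain ⟨k, k1, k2⟩ := exists_Fi23 h
  exact ⟨exists_quot_sub Th.isTh (by norm_num) f1 b1 b2,
    exists_quot_sub ⟨HN.simple, HN.card_HN⟩ (by norm_num) g1 (IsConj.refl _) g2,
    exists_quot_sub ⟨Fischer.simple23, Fischer.card23⟩ (by norm_num) k1 (IsConj.refl _) k2⟩

theorem exists_isoTh (h : MS π τ) : ∃ H : Subgroup G, Spor.IsoTh H :=
  let ⟨f, f1, _⟩ := (mv h.am).exists_Th h.inj; ⟨f.range, ⟨(MonoidHom.ofInjective f1).symm⟩⟩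

theorem exists_isoHN (h : MS π τ) : ∃ H : Subgroup G, Spor.IsoHN H :=
  let ⟨f, f1, _⟩ := (mv h.am).exists_HN h.inj; ⟨f.range, ⟨(MonoidHom.ofInjective f1).symm⟩⟩

end CfsgLib.MonS
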